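import Mathlib

/-!
Counting commuting pairs: the sum of the orders of element centralizers.
-/

namespace CfsgLib.CommutingPairs

/-- The orders of the element centralizers add up to `k(G) * |G|`. -/
theorem sum_card_centralizer (G : Type*) [Group G] [Fintype G] :
    ∑ g : G, Nat.card (Subgroup.centralizer ({g} : Set G))
      = Nat.card (ConjClasses G) * Nat.card G := by
  classical
  rw [← card_comm_eq_card_conjClasses_mul_card, ← Nat.card_sigma]
  exact Nat.card_congr
    { toFun := fun x => ⟨(x.1, x.2.1), (Subgroup.mem_centralizer_singleton_iff.1 x.2.2).symm⟩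
      invFun := fun p => ⟨p.1.1, p.1.2, Subgroup.mem_centralizer_singleton_iff.2 p.2.symm⟩
      left_inv := fun _ => rfl
      right_inv := fun _ => rfl }

end CfsgLib.CommutingPairs
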